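import Cfsg.Agent.H503.El.O83Main
import Cfsg.Agent.H439.Der.Three
import Cfsg.Agent.H964.Opm.O83

/-!
# `PΩ⁺₈(3)` for S3502 (helper385): orders, missing primes 2, 3, 5, 13

* `three_small` : a subgroup missing 2, 3 or 5 is `Three`
* `pgap_of_not_coatom` : a proper non-maximal subgroup misses a prime
* `threeT_thirteen` : a subgroup missing 13 whose order is not divisible by 25 is `ThreeT`
-/

set_option autoImplicit false
set_option maxRecDepth 100000

namespace Cfsg.Agent.H385.Otp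

open Subgroup Cfsg Cfsg.Agent Cfsg.Agent.H503.El Cfsg.Agent.H503.El.O83 Cfsg.Agent.H439.Der
open Cfsg.Agent.H938.Sax (PGap)

theorem exists_order {n : ℕ} (h : n ∈ H899.O7.Om) : ∃ x : T8, orderOf x = n := by
  rw [← H899.O7.Spec.range_Q8] at h
  obtain ⟨g, hg⟩ := h
  have e : T8 ≃* POmega (ZMod 3) (⇑(H899.O7.Spec.Q8)) := by
    rw [H899.O7.Spec.Q8, LieClassical.OrthForms.coe_plusForm]
  exact ⟨e.symm g, by rw [MulEquiv.orderOf_eq, hg]⟩

theorem not_order {n : ℕ} (h : n ∉ H899.O7.Om) (x : T8) : orderOf x ≠ n := by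
  intro hx
  apply h
  rw [← H899.O7.Spec.range_Q8]
  have e : T8 ≃* POmega (ZMod 3) (⇑(H899.O7.Spec.Q8)) := by
    rw [H899.O7.Spec.Q8, LieClassical.OrthForms.coe_plusForm]
  exact ⟨e x, by rw [MulEquiv.orderOf_eq, hx]⟩

/-- **a subgroup missing 2, 3 or 5** -/
theorem three_small {v : ℕ} (hv : v = 2 ∨ v = 3 ∨ v = 5) {R : Subgroup T8} (h : ¬ v ∣ Nat.card R) : Three T8 R := by
  obtain ⟨x2, h2⟩ := exists_order (n := 2) (by decide)
  obtain ⟨x4, h4⟩ := exists_order (n := 4) (by decide)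
  obtain ⟨x6, h6⟩ := exists_order (n := 6) (by decide)
  obtain ⟨x3, h3⟩ := exists_order (n := 3) (by decide)
  obtain ⟨x9, h9⟩ := exists_order (n := 9) (by decide)
  obtain ⟨x5, h5⟩ := exists_order (n := 5) (by decide)
  obtain ⟨x10, h10⟩ := exists_order (n := 10) (by decide)
  obtain ⟨x15, h15⟩ := exists_order (n := 15) (by decide)
  rcases hv with rfl | rfl | rfl
  · refine Three.of_not_dvd h (not_SCC_of_orders (x := x2) (y := x4) (z := x6) ?_ ?_ ?_ ?_ ?_ ?_) ⟨x2, by rw [h2]⟩ <;>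
      simp only [h2, h4, h6] <;> norm_num
  · refine Three.of_not_dvd h (not_SCC_of_orders (x := x3) (y := x6) (z := x9) ?_ ?_ ?_ ?_ ?_ ?_) ⟨x3, by rw [h3]⟩ <;>
      simp only [h3, h6, h9] <;> norm_num
  · refine Three.of_not_dvd h (not_SCC_of_orders (x := x5) (y := x10) (z := x15) ?_ ?_ ?_ ?_ ?_ ?_) ⟨x5, by rw [h5]⟩ <;>
      simp only [h5, h10, h15] <;> norm_num

/-- **a proper non-maximal subgroup misses a prime** -/
theorem pgap_of_not_coatom (OT : OrdDiv.OrderTable.{0})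
    (hS : ∀ (X : Type) [Group X] [Finite X] [IsSimpleGroup X], Cfsg.IsKnownSimple' X)
    {R : Subgroup T8} (hR : R ≠ ⊤) (hc : ¬ IsCoatom R) : PGap T8 R := by
  rcases pgap_t8 OT hS R hR with h | h
  · exact h
  exfalso
  apply hc
  refine ⟨hR, fun N hN => ?_⟩
  by_contra hNt
  rcases pgap_t8 OT hS N hNt with h1 | h1
  · obtain ⟨v, hv, h2, h3⟩ := h1
    apply h3
    refine dvd_trans ?_ (card_dvd_of_le hN.le)
    rw [h]
    rw [card_t8] at h2
    exact hv.dvd_of_dvd_pow (h2.trans (by norm_num : 4952179814400 ∣ 4585351680 ^ 2))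
  · exact hN.ne (eq_of_le_of_card_ge hN.le (by rw [h, h1]))

/-- a class of elements of order 5 missing from `R` -/
theorem five_class {R : Subgroup T8} (h25 : ¬ 5 ^ 2 ∣ Nat.card R) :
    ∃ z : T8, orderOf z = 5 ∧ ∀ g : T8, g * z * g⁻¹ ∉ R := by
  classical
  have h5 : Fact (Nat.Prime 5) := ⟨by norm_num⟩
  by_contra hder
  push Not at hder
  obtain ⟨g1, hφ1⟩ := hder _ order_y1
  obtain ⟨g2, hφ2⟩ := hder _ order_y2
  have ho1 : orderOf (⟨_, hφ1⟩ : R) = 5 := by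
    rw [Subgroup.orderOf_mk, ← MulAut.conj_apply, MulEquiv.orderOf_eq, order_y1]
  have ho2 : orderOf (⟨_, hφ2⟩ : R) = 5 := by
    rw [Subgroup.orderOf_mk, ← MulAut.conj_apply, MulEquiv.orderOf_eq, order_y2]
  obtain ⟨P, hP⟩ := H970.StabNum.exists_sylow_of_card (T := R) h25 (P := zpowers ⟨_, hφ1⟩) (by rw [Nat.card_zpowers, ho1])
  obtain ⟨Q, hQ⟩ := H970.StabNum.exists_sylow_of_card (T := R) h25 (P := zpowers ⟨_, hφ2⟩) (by rw [Nat.card_zpowers, ho2])
  obtain ⟨g, hg⟩ := MulAction.exists_smul_eq R P Q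
  have hmem : (⟨_, hφ2⟩ : R) ∈ (Q : Subgroup R) := by rw [hQ]; exact mem_zpowers _
  rw [← hg, Sylow.coe_subgroup_smul, hP] at hmem
  obtain ⟨w, hw, hwq⟩ := hmem
  obtain ⟨k, rfl⟩ := Subgroup.mem_zpowers_iff.1 hw
  have h3 : (g : T8) * (g1 * pr y1 * g1⁻¹) ^ k * (g : T8)⁻¹ = g2 * pr y2 * g2⁻¹ := congrArg Subtype.val hwq
  refine not_conj (g2⁻¹ * g * g1) ?_
  rw [Subgroup.mem_zpowers_iff]
  refine ⟨k, ?_⟩
  rw [conj_zpow] at h3 ⊢
  calc g2⁻¹ * g * g1 * pr y1 ^ k * (g2⁻¹ * g * g1)⁻¹ = g2⁻¹ * (g * (g1 * pr y1 ^ k * g1⁻¹) * (g : T8)⁻¹) * g2 := by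
        group
    _ = pr y2 := by rw [h3]; group

theorem not_sc_13 : ¬ SC T8 13 :=
  H964.Opm.not_SC_13 (F := ZMod 3) (ZMod.card 3) (by
    have h := card_t8
    show 13 ∣ Nat.card T8
    rw [h]; norm_num)

/-- **a subgroup missing 13 whose order is not divisible by 25** -/
theorem threeT_thirteen {R : Subgroup T8} (h13 : ¬ 13 ∣ Nat.card R) (h25 : ¬ 5 ^ 2 ∣ Nat.card R) : ThreeT T8 R := by
  have h := not_sc_13
  unfold SC at h
  push Not at h
  obtain ⟨x, y, hx, hy, hxy⟩ := h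
  obtain ⟨z, hz, hzR⟩ := five_class h25
  have key : ∀ u : T8, 13 ∣ orderOf u → ∀ g : T8, g * u * g⁻¹ ∉ R := by
    intro u hu g hg
    exact not_mem_of_dvd h13 hu (MulAut.conj g) (by rw [MulAut.conj_apply]; exact hg)
  refine ⟨x, y, z, key x hx, key y hy, hzR, fun g hg => hxy (MulAut.conj g) (by rw [MulAut.conj_apply]; exact hg),
    fun g hg => ?_, fun g hg => ?_⟩
  · have h1 : orderOf z = orderOf x := by rw [← hg, ← MulAut.conj_apply, MulEquiv.orderOf_eq]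
    rw [← h1, hz] at hx
    norm_num at hx
  · have h1 : orderOf z = orderOf y := by rw [← hg, ← MulAut.conj_apply, MulEquiv.orderOf_eq]
    rw [← h1, hz] at hy
    norm_num at hy

/-- a subgroup missing 13 and an element order prime to 13 -/
theorem three_thirteen {R : Subgroup T8} (h13 : ¬ 13 ∣ Nat.card R) {n : ℕ} (hn : n ∈ H899.O7.Om) (hn13 : ¬ 13 ∣ n)
    (h : ∀ m ∈ R, orderOf m ≠ n) : Three T8 R := by
  obtain ⟨z, hz⟩ := exists_order hn
  exact Three.of_not_SC_order h13 not_sc_13 hz h hn13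

end Cfsg.Agent.H385.Otp
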