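import Cfsg.Agent.H385.Otp.Base

/-!
# `PΩ⁺₈(3)` for S3502 (helper385): the subgroups of order divisible by 175 and prime to 13

The structure theorem at the prime 7: `R ⊵ L ⊵ A`, `L / A` simple of order 604800, 1814400 or 174182400.
-/

set_option autoImplicit false
set_option maxRecDepth 100000

namespace Cfsg.Agent.H385.Otp

open Subgroup Cfsg Cfsg.Agent Cfsg.Agent.H503.El Cfsg.Agent.H503.El.O83 Cfsg.Agent.H439.Der
open Cfsg.Agent.H938.Sax (PGap)

theorem coprime_mem {R : Type*} [Group R] [Finite R] (L : Subgroup R) [L.Normal] (u : R)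
    (h : Nat.Coprime (orderOf u) L.index) : u ∈ L := by
  rw [← QuotientGroup.eq_one_iff (N := L)]
  have h1 : orderOf (u : R ⧸ L) ∣ orderOf u := orderOf_map_dvd (QuotientGroup.mk' L) u
  have h2 : orderOf (u : R ⧸ L) ∣ L.index := by
    rw [index_eq_card]
    exact orderOf_dvd_natCard _
  have h3 := Nat.dvd_gcd h1 h2
  rw [h] at h3
  exact orderOf_eq_one_iff.1 (Nat.dvd_one.1 h3)

theorem order_quot {L : Type*} [Group L] [Finite L] (A : Subgroup L) [A.Normal] (v : L)
    (h : Nat.Coprime (orderOf v) (Nat.card A)) : orderOf (QuotientGroup.mk' A v) = orderOf v := by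
  apply Nat.dvd_antisymm (orderOf_map_dvd _ v)
  have h1 : v ^ orderOf (QuotientGroup.mk' A v) ∈ A := by
    rw [← QuotientGroup.eq_one_iff (N := A)]
    have h2 := pow_orderOf_eq_one (QuotientGroup.mk' A v)
    rw [← map_pow] at h2
    exact h2
  have h2 : orderOf (v ^ orderOf (QuotientGroup.mk' A v)) ∣ Nat.card A := by
    have h3 := orderOf_dvd_natCard (⟨_, h1⟩ : A)
    rwa [Subgroup.orderOf_mk] at h3
  have h3 : orderOf (v ^ orderOf (QuotientGroup.mk' A v)) ∣ orderOf v := orderOf_pow_dvd _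
  have h4 := Nat.dvd_gcd h3 h2
  rw [h] at h4
  have h5 := orderOf_eq_one_iff.1 (Nat.dvd_one.1 h4)
  exact orderOf_dvd_of_pow_eq_one h5

/-- an element of order coprime to `|A| |R : L|` has an image of the same order in `L / A` -/
theorem exists_quot {R : Type*} [Group R] [Finite R] (L : Subgroup R) [L.Normal] (A : Subgroup L) [A.Normal] (u : R)
    (h1 : Nat.Coprime (orderOf u) L.index) (h2 : Nat.Coprime (orderOf u) (Nat.card A)) :
    ∃ v : L ⧸ A, orderOf v = orderOf u := by
  have h3 := coprime_mem L u h1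
  refine ⟨QuotientGroup.mk' A ⟨u, h3⟩, ?_⟩
  rw [order_quot A _ (by rwa [Subgroup.orderOf_mk]), Subgroup.orderOf_mk]

/-- `A` is a 3'-group -/
theorem not_three_dvd (no3 : ∀ {P Q : Subgroup T8}, Nat.card P = 7 → IsPGroup 3 Q → P ≤ normalizer (Q : Set T8) → Q = ⊥)
    {L : Type*} [Group L] [Finite L] (ι : L →* T8) (hι : Function.Injective ι) (A : Subgroup L) [A.Normal]
    (h7 : ¬ 7 ∣ Nat.card A) {P : Subgroup L} (hP : Nat.card P = 7) : ¬ 3 ∣ Nat.card A := by
  intro h3
  have f3 : Fact (Nat.Prime 3) := ⟨Nat.prime_three⟩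
  have f7 : Fact (Nat.Prime 7) := ⟨by norm_num⟩
  have hPp : IsPGroup 7 P := IsPGroup.of_card (n := 1) (by rw [hP, pow_one])
  -- the action of `L` on the Sylow 3-subgroups of `A`
  obtain ⟨Q, hQ⟩ : ∃ Q : Sylow 3 A, ∀ g ∈ P, ∀ x ∈ (Q : Subgroup A).map A.subtype,
      g * x * g⁻¹ ∈ (Q : Subgroup A).map A.subtype := by
    let : MulDistribMulAction L A := MulDistribMulAction.compHom A (MulAut.conjNormal (H := A))
    have hdvd : Nat.card (Sylow 3 A) ∣ Nat.card A := by
      obtain ⟨S⟩ : Nonempty (Sylow 3 A) := inferInstance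
      rw [S.card_eq_index_normalizer]
      exact index_dvd_card _
    obtain ⟨Q, hQ⟩ := hPp.nonempty_fixed_point_of_prime_not_dvd_card (Sylow 3 A) (fun h => h7 (h.trans hdvd))
    refine ⟨Q, ?_⟩
    rintro g hg _ ⟨x, hx, rfl⟩
    have h1 : (g • Q : Sylow 3 A) = Q := hQ ⟨g, hg⟩
    have h2 : g • x ∈ (Q : Subgroup A) := by
      have h4 : g • x ∈ ((g • Q : Sylow 3 A) : Subgroup A) := Subgroup.smul_mem_pointwise_smul x g _ hx
      rwa [h1] at h4
    exact ⟨g • x, h2, rfl⟩
  have hle : P.map ι ≤ normalizer ((((Q : Subgroup A).map A.subtype).map ι : Subgroup T8) : Set T8) := by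
    rintro _ ⟨g, hg, rfl⟩
    rw [mem_normalizer_iff]
    have key : ∀ g ∈ P, ∀ y ∈ ((Q : Subgroup A).map A.subtype).map ι,
        ι g * y * (ι g)⁻¹ ∈ ((Q : Subgroup A).map A.subtype).map ι := by
      rintro g hg _ ⟨x, hx, rfl⟩
      refine ⟨g * x * g⁻¹, hQ g hg x hx, ?_⟩
      rw [map_mul, map_mul, map_inv]
    intro y
    refine ⟨key g hg y, fun h => ?_⟩
    have h1 := key g⁻¹ (inv_mem hg) _ h
    have h2 : ι g⁻¹ * (ι g * y * (ι g)⁻¹) * (ι g⁻¹)⁻¹ = y := by
      rw [map_inv]; group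
    rwa [h2] at h1
  have hbot := no3 (P := P.map ι) (Q := ((Q : Subgroup A).map A.subtype).map ι)
    (by rw [Subgroup.card_map_of_injective hι, hP]) (((Q.isPGroup').map _).map _) hle
  rw [Subgroup.map_eq_bot_iff_of_injective _ hι, Subgroup.map_eq_bot_iff_of_injective _ A.subtype_injective] at hbot
  have h4 := Q.dvd_card_of_dvd_card h3
  rw [hbot, card_bot] at h4
  norm_num at h4

theorem tbl_mem (OT : OrdDiv.OrderTable.{0})
    (hS : ∀ (X : Type) [Group X] [Finite X] [IsSimpleGroup X], Cfsg.IsKnownSimple' X)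
    (K : Type) [Group K] [Finite K] (hK : IsSimpleGroup K) (hna : ¬ ∀ x y : K, x * y = y * x)
    (hd : Nat.card K ∣ 4952179814400) : Nat.card K ∈ [60, 168, 360, 504, 1092, 2520, 5616, 6048, 7800, 9828, 20160,
      25920, 29120, 62400, 181440, 262080, 604800, 1451520, 1814400, 3265920, 4245696, 6065280, 17971200, 42456960,
      174182400, 251596800, 4585351680, 4952179814400] :=
  H970.StabNum.mem_tbl OT hS (l := [(2, 12), (3, 12), (5, 2), (7, 1), (13, 1)]) (by decide +kernel) (by decide +kernel)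
    K hK hna hd

theorem norm_j2 {x n c D : ℕ} (hx : x * n = 604800) (hn : n % 7 = 1) (h : c * (D * x) ∣ 168) (h3 : 3 ∣ c)
    (h7 : 7 ∣ x) : False := by
  obtain ⟨m, rfl⟩ := h7
  have h1 : 3 * m ∣ 24 := by
    have h2 : 7 * (3 * m) ∣ 7 * 24 := by
      refine dvd_trans ?_ h
      obtain ⟨k, rfl⟩ := h3
      exact ⟨k * D, by ring⟩
    exact Nat.dvd_of_mul_dvd_mul_left (by norm_num) h2
  have h2 : m ∣ 8 := by
    have : 3 * m ∣ 3 * 8 := h1
    exact Nat.dvd_of_mul_dvd_mul_left (by norm_num) this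
  have h3' : m ≤ 8 := Nat.le_of_dvd (by norm_num) h2
  have h4 : m * n = 86400 := by
    have : 7 * (m * n) = 7 * 86400 := by rw [← mul_assoc, hx]
    exact Nat.eq_of_mul_eq_mul_left (by norm_num) this
  interval_cases m <;> omega

set_option maxHeartbeats 2000000 in
/-- **the subgroups of order divisible by 175 and prime to 13** -/
theorem three_175 (OT : OrdDiv.OrderTable.{0})
    (hS : ∀ (X : Type) [Group X] [Finite X] [IsSimpleGroup X], Cfsg.IsKnownSimple' X)
    (hC7 : ∀ P : Subgroup T8, Nat.card P = 7 → Nat.card (centralizer (P : Set T8)) ∣ 7 * 4 ∧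
      Nat.card (normalizer (P : Set T8)) ∣ 7 * 24)
    (no3 : ∀ {P Q : Subgroup T8}, Nat.card P = 7 → IsPGroup 3 Q → P ≤ normalizer (Q : Set T8) → Q = ⊥)
    (hnine : ∀ (S : Type) [Group S] [Finite S] [IsSimpleGroup S], Nat.card S = 604800 → ∀ x : S, orderOf x ≠ 9)
    (h21 : ∀ (S : Type) [Group S] [Finite S] [IsSimpleGroup S], Nat.card S = 1814400 → ∃ x : S, orderOf x = 21)
    (h14 : ∀ (S : Type) [Group S] [Finite S] [IsSimpleGroup S], Nat.card S = 174182400 → ∀ x : S, orderOf x ≠ 14)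
    {R : Subgroup T8} (h13 : ¬ 13 ∣ Nat.card R) (h25 : 25 ∣ Nat.card R) (h7 : 7 ∣ Nat.card R) : Three T8 R := by
  classical
  have f7 : Fact (Nat.Prime 7) := ⟨by norm_num⟩
  have hRT : Nat.card R ∣ 4952179814400 := by rw [← card_t8]; exact Subgroup.card_subgroup_dvd_card R
  have hR49 : ¬ 7 ^ 2 ∣ Nat.card R := fun h => absurd (h.trans hRT) (by norm_num)
  have hR125 : ¬ 5 ^ 3 ∣ Nat.card R := fun h => absurd (h.trans hRT) (by norm_num)
  have hR213 : ¬ 2 ^ 13 ∣ Nat.card R := fun h => absurd (h.trans hRT) (by norm_num)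
  obtain ⟨x, hx⟩ := exists_prime_orderOf_dvd_card' 7 h7
  have hP : Nat.card (zpowers x) = 7 := by rw [Nat.card_zpowers, hx]
  have hPm : Nat.card ((zpowers x).map R.subtype) = 7 := by
    rw [← hP]
    exact (Nat.card_congr ((zpowers x).equivMapOfInjective _ R.subtype_injective).toEquiv).symm
  obtain ⟨L, hLn, A, hAn, hs, hA7, hPL, hcard, hs7, D, m, hN, hDC, hDA, hpow⟩ := Struct.exists_struct' hP hR49
  have hC28 : Nat.card (centralizer ((zpowers x : Subgroup R) : Set R)) ∣ 28 :=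
    (Fix.card_cent_map R.subtype_injective _).trans (hC7 _ hPm).1
  have hN168 : Nat.card (normalizer ((zpowers x : Subgroup R) : Set R)) ∣ 168 :=
    (Fix.card_norm_map R.subtype_injective _).trans (hC7 _ hPm).2
  have hA0 : Nat.card A ≠ 0 := (Nat.card_pos (α := A)).ne'
  have hD4 : D ∣ 4 := by
    have h1 : Nat.Coprime D 7 := by
      rw [Nat.coprime_comm]
      exact (Nat.Prime.coprime_iff_not_dvd f7.out).2 (fun h => hA7 (h.trans hDA))
    exact h1.dvd_of_dvd_mul_left (show D ∣ 7 * 4 from hDC.trans hC28)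
  have hc168 : L.index ∣ 168 := (Dvd.intro _ hN.symm).trans hN168
  have hc24 : L.index * (D * m) ∣ 24 := by
    rw [hN] at hN168
    have h1 : 7 * (L.index * (D * m)) ∣ 7 * 24 := by
      have h2 : L.index * (D * (7 * m)) = 7 * (L.index * (D * m)) := by ring
      rwa [h2] at hN168
    exact Nat.dvd_of_mul_dvd_mul_left (by norm_num) h1
  have hc : L.index ∣ 24 := (Dvd.intro _ rfl).trans hc24
  have h7c : ¬ 7 ∣ L.index := fun h => absurd (h.trans hc) (by norm_num)
  have h5c : ¬ 5 ∣ L.index := fun h => absurd (h.trans hc) (by norm_num)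
  have hadvd : Nat.card A ∣ Nat.card R := ⟨Nat.card (L ⧸ A) * L.index, by rw [hcard]; ring⟩
  have hsdvd : Nat.card (L ⧸ A) ∣ Nat.card R := ⟨Nat.card A * L.index, by rw [hcard]; ring⟩
  -- `5` does not divide `|A|`
  have h5a : ¬ 5 ∣ Nat.card A := by
    intro h
    have h5 : 1 ≤ (Nat.card A).factorization 5 := (Nat.prime_five.dvd_iff_one_le_factorization hA0).1 h
    have h6 : ¬ 3 ≤ (Nat.card A).factorization 5 := fun h6 => hR125
      (((Nat.prime_five.pow_dvd_iff_le_factorization hA0).2 h6).trans hadvd)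
    obtain ⟨j, hj, hj'⟩ := hpow 5 Nat.prime_five
    have hj0 : j = 0 := by
      by_contra hj0
      have h8 : 5 ∣ 4 := (dvd_pow_self 5 hj0).trans (hj.trans hD4)
      norm_num at h8
    subst hj0
    have h7' : (Nat.card A).factorization 5 = 1 ∨ (Nat.card A).factorization 5 = 2 := by omega
    rcases h7' with h7' | h7' <;> rw [h7'] at hj' <;> exact absurd hj' (by decide)
  have h175 : 175 ∣ Nat.card (L ⧸ A) := by
    have h1 : 5 ^ 2 ∣ Nat.card (L ⧸ A) := by
      have h2 : 5 ^ 2 ∣ Nat.card A * (Nat.card (L ⧸ A) * L.index) := by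
        rw [← mul_assoc, ← hcard]; exact h25
      have h3 := (Nat.Coprime.pow_left 2 ((Nat.Prime.coprime_iff_not_dvd Nat.prime_five).2 h5a)).dvd_of_dvd_mul_left h2
      exact (Nat.Coprime.pow_left 2 ((Nat.Prime.coprime_iff_not_dvd Nat.prime_five).2 h5c)).dvd_of_dvd_mul_right h3
    exact Nat.Coprime.mul_dvd_of_dvd_of_dvd (by norm_num : Nat.Coprime 25 7) h1 hs7
  have hna : ¬ ∀ u v : L ⧸ A, u * v = v * u := by
    intro hab
    let : CommGroup (L ⧸ A) := { (inferInstance : Group (L ⧸ A)) with mul_comm := hab }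
    have h3 : (Nat.card (L ⧸ A)).Prime := IsSimpleGroup.prime_card (α := L ⧸ A)
    have h4 : 5 = Nat.card (L ⧸ A) := (Nat.prime_dvd_prime_iff_eq Nat.prime_five h3).1
      ((by norm_num : 5 ∣ 175).trans h175)
    rw [← h4] at h175
    norm_num at h175
  have hmem := tbl_mem OT hS (L ⧸ A) hs hna (hsdvd.trans hRT)
  have h13s : ¬ 13 ∣ Nat.card (L ⧸ A) := fun h => h13 (h.trans hsdvd)
  have hcases : Nat.card (L ⧸ A) = 604800 ∨ Nat.card (L ⧸ A) = 1814400 ∨ Nat.card (L ⧸ A) = 174182400 := by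
    have h1 : ∀ s ∈ [60, 168, 360, 504, 1092, 2520, 5616, 6048, 7800, 9828, 20160,
        25920, 29120, 62400, 181440, 262080, 604800, 1451520, 1814400, 3265920, 4245696, 6065280, 17971200, 42456960,
        174182400, 251596800, 4585351680, 4952179814400], 175 ∣ s → ¬ 13 ∣ s →
        s = 604800 ∨ s = 1814400 ∨ s = 174182400 := by decide +kernel
    exact h1 _ hmem h175 h13s
  have hPL7 : Nat.card ((zpowers x).subgroupOf L) = 7 := by
    rw [Nat.card_congr (Subgroup.subgroupOfEquivOfLe hPL).toEquiv, hP]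
  rcases hcases with hcs | hcs | hcs
  · -- `J₂`
    have h3a : ¬ 3 ∣ Nat.card A :=
      not_three_dvd no3 (R.subtype.comp L.subtype) (fun u v huv => Subtype.ext (Subtype.ext huv)) A hA7 hPL7
    have h3c : ¬ 3 ∣ L.index := by
      intro h3c
      have hN1 := H970.StabK.card_normalizer_frattini hPL hP hR49
      have hN2 := H970.StabK.card_normalizer (R := A) hPL7 hA7
      have hmapcard : Nat.card (((zpowers x).subgroupOf L).map (QuotientGroup.mk' A)) = 7 := by
        have h1 : Nat.card (((zpowers x).subgroupOf L).map (QuotientGroup.mk' A)) ∣ 7 := by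
          have := Subgroup.card_map_dvd ((zpowers x).subgroupOf L) (QuotientGroup.mk' A)
          rwa [hPL7] at this
        rcases (Nat.dvd_prime f7.out).1 h1 with h | h
        · exfalso
          have h2 : ((zpowers x).subgroupOf L).map (QuotientGroup.mk' A) = ⊥ := Subgroup.eq_bot_of_card_eq _ h
          rw [Subgroup.map_eq_bot_iff, QuotientGroup.ker_mk'] at h2
          apply hA7
          rw [← hPL7]
          exact Subgroup.card_dvd_of_le h2
        · exact h
      have hs49 : ¬ 7 ^ 2 ∣ Nat.card (L ⧸ A) := fun h => hR49 (h.trans hsdvd)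
      obtain ⟨Q, hQ⟩ := H970.StabNum.exists_sylow_of_card hs49 hmapcard
      have h1 := card_sylow_modEq_one 7 (L ⧸ A)
      have h2 : Nat.card (normalizer ((((zpowers x).subgroupOf L).map (QuotientGroup.mk' A) : Subgroup (L ⧸ A)) :
          Set (L ⧸ A))) * Nat.card (Sylow 7 (L ⧸ A)) = Nat.card (L ⧸ A) := by
        rw [← hQ, Q.card_eq_index_normalizer]
        exact card_mul_index _
      rw [hcs] at h2
      have h3 : 7 ∣ Nat.card (normalizer ((((zpowers x).subgroupOf L).map (QuotientGroup.mk' A) : Subgroup (L ⧸ A)) :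
          Set (L ⧸ A))) := by
        have h := Subgroup.card_dvd_of_le (Subgroup.le_normalizer (H := ((zpowers x).subgroupOf L).map
          (QuotientGroup.mk' A)))
        rwa [hmapcard] at h
      rw [hN1, hN2] at hN168
      exact norm_j2 h2 h1 hN168 h3c h3
    refine three_thirteen h13 (n := 9) (by decide) (by norm_num) fun u hu ho => ?_
    have ho' : orderOf (⟨u, hu⟩ : R) = 9 := by rw [Subgroup.orderOf_mk, ho]
    have hcop : ∀ k : ℕ, ¬ 3 ∣ k → Nat.Coprime 9 k := fun k hk =>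
      Nat.Coprime.pow_left 2 ((Nat.Prime.coprime_iff_not_dvd Nat.prime_three).2 hk)
    obtain ⟨v, hv⟩ := exists_quot L A (⟨u, hu⟩ : R) (by rw [ho']; exact hcop _ h3c) (by rw [ho']; exact hcop _ h3a)
    rw [ho'] at hv
    exact hnine (L ⧸ A) hcs v hv
  · -- `A₁₀`
    exfalso
    obtain ⟨g, hog⟩ := h21 (L ⧸ A) hcs
    obtain ⟨w, hw⟩ := QuotientGroup.mk'_surjective A g
    have hox : 21 ∣ orderOf w := by
      have h1 := orderOf_map_dvd (QuotientGroup.mk' A) w
      rwa [hw, hog] at h1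
    obtain ⟨k, hk⟩ := hox
    have hk0 : k ≠ 0 := by
      rintro rfl
      rw [mul_zero] at hk
      exact (orderOf_pos w).ne' hk
    apply not_21 (((w ^ k : L) : R) : T8)
    rw [Subgroup.orderOf_coe, Subgroup.orderOf_coe, orderOf_pow' w hk0, hk, Nat.gcd_mul_left_left,
      Nat.mul_div_cancel _ (Nat.pos_of_ne_zero hk0)]
  · -- `Ω⁺₈(2)`
    have h2 : ¬ 2 ∣ Nat.card A * L.index := by
      intro h
      apply hR213
      rw [hcard, hcs]
      obtain ⟨k, hk⟩ := h
      refine ⟨k * 42525, ?_⟩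
      calc Nat.card A * 174182400 * L.index = (Nat.card A * L.index) * 174182400 := by ring
        _ = 2 ^ 13 * (k * 42525) := by rw [hk]; ring
    have h2a : ¬ 2 ∣ Nat.card A := fun h => h2 (h.mul_right _)
    have h2c : ¬ 2 ∣ L.index := fun h => h2 (h.mul_left _)
    refine three_thirteen h13 (n := 14) (by decide) (by norm_num) fun u hu ho => ?_
    have ho' : orderOf (⟨u, hu⟩ : R) = 14 := by rw [Subgroup.orderOf_mk, ho]
    have hcop : ∀ k : ℕ, ¬ 2 ∣ k → ¬ 7 ∣ k → Nat.Coprime 14 k := fun k hk2 hk7 =>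
      Nat.Coprime.mul_left ((Nat.Prime.coprime_iff_not_dvd Nat.prime_two).2 hk2)
        ((Nat.Prime.coprime_iff_not_dvd f7.out).2 hk7)
    obtain ⟨v, hv⟩ := exists_quot L A (⟨u, hu⟩ : R) (by rw [ho']; exact hcop _ h2c h7c)
      (by rw [ho']; exact hcop _ h2a hA7)
    rw [ho'] at hv
    exact h14 (L ⧸ A) hcs v hv

end Cfsg.Agent.H385.Otp
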