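import Cfsg.Agent.H385.Otp.Str

/-!
# `PΩ⁺₈(3)` for S3502 (helper385): the assembly
-/

set_option autoImplicit false
set_option maxRecDepth 100000

namespace Cfsg.Agent.H385.Otp

open Subgroup Cfsg Cfsg.Agent Cfsg.Agent.H503.El Cfsg.Agent.H503.El.O83 Cfsg.Agent.H439.Der
open Cfsg.Agent.H938.Sax (PGap MissMax)

theorem nsc_t8 : NSC T8 := H964.Opm.nsc_plus (F := ZMod 3) (m := 4) le_rfl (by
  rintro ⟨-, h⟩
  rw [ZMod.card] at h
  norm_num at h)

/-- **the row, from the pieces** -/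
theorem rowW_aux (OT : OrdDiv.OrderTable.{0})
    (hS : ∀ (X : Type) [Group X] [Finite X] [IsSimpleGroup X], Cfsg.IsKnownSimple' X)
    (hmiss : MissMax T8) (hcos : Cos T8)
    (hob : ∀ (r : ℕ) (R : Subgroup T8), r = 7 ∨ r = 13 → ¬ r ∣ Nat.card R → OutBadN T8 R)
    (hC7 : ∀ P : Subgroup T8, Nat.card P = 7 → Nat.card (centralizer (P : Set T8)) ∣ 7 * 4 ∧
      Nat.card (normalizer (P : Set T8)) ∣ 7 * 24)
    (no3 : ∀ {P Q : Subgroup T8}, Nat.card P = 7 → IsPGroup 3 Q → P ≤ normalizer (Q : Set T8) → Q = ⊥)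
    (hnine : ∀ (S : Type) [Group S] [Finite S] [IsSimpleGroup S], Nat.card S = 604800 → ∀ x : S, orderOf x ≠ 9)
    (h21 : ∀ (S : Type) [Group S] [Finite S] [IsSimpleGroup S], Nat.card S = 1814400 → ∃ x : S, orderOf x = 21)
    (h14 : ∀ (S : Type) [Group S] [Finite S] [IsSimpleGroup S], Nat.card S = 174182400 → ∀ x : S, orderOf x ≠ 14)
    (hseven : ∀ R : Subgroup T8, ¬ 7 ∣ Nat.card R → ThreeT T8 R) : RowW T8 := by
  refine ⟨Or.inr ⟨hcos, hmiss⟩, fun R hR hRc => ?_⟩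
  have hg := pgap_of_not_coatom OT hS hR hRc
  have htwo : Two T8 R := Two.of_pgap nsc_t8 hg
  obtain ⟨v, hv, h1, h2⟩ := hg
  have h7 : ¬ 7 ∣ Nat.card R → Fin3 T8 R := fun h => Or.inr ⟨hseven R h, htwo, Or.inr (hob 7 R (Or.inl rfl) h)⟩
  have hvs : v = 2 ∨ v = 3 ∨ v = 5 ∨ v = 7 ∨ v = 13 := by
    rw [card_t8] at h1
    have h3 : v ∣ 2 * 3 * 5 * 7 * 13 := hv.dvd_of_dvd_pow (h1.trans (by norm_num : 4952179814400 ∣ (2 * 3 * 5 * 7 * 13) ^ 12))
    have h4 : v ∈ Nat.primeFactors (2 * 3 * 5 * 7 * 13) := Nat.mem_primeFactors.2 ⟨hv, h3, by norm_num⟩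
    have h5 : Nat.primeFactors (2 * 3 * 5 * 7 * 13) = {2, 3, 5, 7, 13} := by decide +kernel
    rw [h5] at h4
    simpa using h4
  rcases hvs with rfl | rfl | rfl | rfl | rfl
  · exact Or.inl (three_small (by norm_num) h2)
  · exact Or.inl (three_small (by norm_num) h2)
  · exact Or.inl (three_small (by norm_num) h2)
  · exact h7 h2
  · by_cases h25 : 25 ∣ Nat.card R
    · by_cases h7R : 7 ∣ Nat.card R
      · exact Or.inl (three_175 OT hS hC7 no3 hnine h21 h14 h2 h25 h7R)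
      · exact h7 h7R
    · exact Or.inr ⟨threeT_thirteen h2 h25, htwo, Or.inr (hob 13 R (Or.inr rfl) h2)⟩

/-- transfer to an arbitrary field with three elements -/
theorem rowW_of_t8 (h : RowW T8) (F : Type) [Field F] [Fintype F] (hF : Fintype.card F = 3) :
    RowW (Cfsg.POmega F (Cfsg.quadFormPlus 4 F)) := by
  obtain ⟨e⟩ := equiv_o83 F hF
  exact h.congr e

end Cfsg.Agent.H385.Otp
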